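import Cfsg.Agent.Lib.PRational.Section
import Cfsg.Agent.Lib.Blocks.SectionMatrix

/-!
# The p-rational characters of a block

A power map fixing the regular elements permutes the irreducible characters of a block and the
section functions in it; the fixed points are equally many, and the functions carried by the
regular elements are fixed.
-/

set_option autoImplicit false
set_option linter.style.haveILetI false
set_option linter.unusedSectionVars false

namespace Cfsg.Agent.Lib.PRational.Count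

open Cfsg.Agent.Lib.Characters.Basic Cfsg.Agent.Lib.Characters.Complete
open Cfsg.Agent.Lib.Blocks Cfsg.Agent.Lib.Blocks.Contrib Cfsg.Agent.Lib.Blocks.BlockPart
open Cfsg.Agent.Lib.Blocks.SectionPart Cfsg.Agent.Lib.Induced.Basic
open Cfsg.Agent.Lib.BrauerMap.PrincipalSection (isPPart_unique)
open Cfsg.Agent.Lib.BrauerChar Cfsg.Agent.Lib.PRational.Section

universe u

/-- Two bases of one space, both permuted by a linear map, have equally many fixed vectors. -/
theorem card_fixed_eq {V : Type*} [AddCommGroup V] [Module ℂ V] (T : V →ₗ[ℂ] V)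
    {ι κ : Type*} [Finite ι] [Finite κ] (v : ι → V) (w : κ → V) (hv : LinearIndependent ℂ v)
    (hw : LinearIndependent ℂ w)
    (hspan : Submodule.span ℂ (Set.range v) = Submodule.span ℂ (Set.range w))
    (σ : ι → ι) (τ : κ → κ) (hσ : ∀ i, T (v i) = v (σ i)) (hτ : ∀ j, T (w j) = w (τ j)) :
    Nat.card {i // σ i = i} = Nat.card {j // τ j = j} := by
  classical
  haveI := Fintype.ofFinite ι
  haveI := Fintype.ofFinite κ
  set W := Submodule.span ℂ (Set.range v) with hW
  have hmem : ∀ x ∈ W, T x ∈ W := fun x hx => by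
    rw [hW] at hx ⊢
    refine Submodule.span_induction ?_ ?_ ?_ ?_ hx
    · rintro _ ⟨i, rfl⟩
      rw [hσ]
      exact Submodule.subset_span ⟨σ i, rfl⟩
    · rw [map_zero]; exact zero_mem _
    · intro a b _ _ ha hb; rw [map_add]; exact add_mem ha hb
    · intro c a _ ha; rw [map_smul]; exact Submodule.smul_mem _ c ha
  let bv : Module.Basis ι ℂ W := Module.Basis.span hv
  let bw : Module.Basis κ ℂ W := (Module.Basis.span hw).map (LinearEquiv.ofEq _ _ hspan.symm)
  have key : ∀ {μ : Type _} [Fintype μ] [DecidableEq μ] (b : Module.Basis μ ℂ W) (π : μ → μ),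
      (∀ i, T (b i : V) = (b (π i) : V)) →
      LinearMap.trace ℂ W (T.restrict hmem) = ((Finset.univ.filter fun i => π i = i).card : ℂ) := by
    intro μ _ _ b π h
    have h' : ∀ i, T.restrict hmem (b i) = b (π i) := fun i => Subtype.ext (h i)
    rw [LinearMap.trace_eq_matrix_trace ℂ b, Matrix.trace, ← Finset.sum_boole]
    refine Finset.sum_congr rfl fun i _ => ?_
    rw [Matrix.diag_apply, LinearMap.toMatrix_apply, h' i, b.repr_self, Finsupp.single_apply]
  have hbv : ∀ i, (bv i : V) = v i := fun i => congrArg Subtype.val (Module.Basis.span_apply hv i)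
  have hbw : ∀ j, (bw j : V) = w j := fun j => by simp [bw]
  have h1 := key bv σ fun i => by rw [hbv, hbv]; exact hσ i
  have h2 : LinearMap.trace ℂ W (T.restrict hmem) =
      ((Finset.univ.filter fun j => τ j = j).card : ℂ) := by
    have h : ∀ j, T.restrict hmem (bw j) = bw (τ j) := fun j => Subtype.ext (by
      show T (bw j : V) = (bw (τ j) : V)
      rw [hbw, hbw]; exact hτ j)
    rw [LinearMap.trace_eq_matrix_trace ℂ bw, Matrix.trace, ← Finset.sum_boole]
    refine Finset.sum_congr rfl fun i _ => ?_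
    rw [Matrix.diag_apply, LinearMap.toMatrix_apply, h i, bw.repr_self, Finsupp.single_apply]
  rw [Nat.card_eq_fintype_card, Nat.card_eq_fintype_card, Fintype.card_subtype,
    Fintype.card_subtype]
  exact_mod_cast h1.symm.trans h2

variable {G : Type u} [Group G] [Fintype G] {p : ℕ} [Fact p.Prime] {M : Ideal Cfsg.AlgInt}
  [M.IsMaximal]

/-- The section functions of the irreducible Brauer characters of the centralizers. -/
def secSet (p : ℕ) [Fact p.Prime] (M : Ideal Cfsg.AlgInt) [M.IsMaximal] (G : Type u) [Group G]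
    [Fintype G] : Set (G → ℂ) :=
  {φ | ∃ x : G, (∃ k : ℕ, orderOf x = p ^ k) ∧ ∃ f : IBr M p (Cz x), φ = secF x (Cz x) f.1}

theorem secF_mem {x : G} (hx : ∃ k : ℕ, orderOf x = p ^ k) {H : Subgroup G} (hH : H = Cz x)
    (f : IBr M p H) : secF x H f.1 ∈ secSet p M G := by
  subst hH
  exact ⟨x, hx, f, rfl⟩

theorem finite_secSet (hM : Cfsg.IsPModular p M) : (secSet p M G).Finite := by
  haveI : ∀ x : G, Finite (IBr M p (Cz x)) := fun x => finite_ibr hM
  refine (Set.finite_range fun a : Σ x : G, IBr M p (Cz x) =>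
    secF a.1 (Cz a.1) a.2.1).subset ?_
  rintro _ ⟨x, -, f, rfl⟩
  exact ⟨⟨x, f⟩, rfl⟩

theorem isClassFunction_of_mem {φ : G → ℂ} (h : φ ∈ secSet p M G) :
    Cfsg.IsClassFunction G φ := by
  obtain ⟨x, -, f, rfl⟩ := h
  exact isClassFunction_secF _ _ _

/-- A section function not vanishing on a section is carried by it. -/
theorem exists_eq_of_ne_zero {φ : G → ℂ} (hφ : φ ∈ secSet p M G) {x g : G}
    (hg : Cfsg.IsPPart p g x) (hne : φ g ≠ 0) :
    ∃ f : IBr M p (Cz x), φ = secF x (Cz x) f.1 := by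
  obtain ⟨y, hy, f, rfl⟩ := hφ
  obtain ⟨w, hw⟩ := exists_conj_of_ne_zero hy rfl f hne
  have hxw := isPPart_unique Fact.out hg hw
  obtain rfl : y = w⁻¹ * x * w⁻¹⁻¹ := by rw [hxw]; group
  exact exists_secF_conj f

/-- The section functions are linearly independent. -/
theorem linearIndependent_secSet (hM : Cfsg.IsPModular p M) :
    LinearIndependent ℂ fun φ : secSet p M G => (φ : G → ℂ) := by
  classical
  rw [linearIndependent_iff']
  intro t c hc φ₀ hφ₀
  obtain ⟨x, hx, f₀, hf₀⟩ := φ₀.2
  let P : secSet p M G → Prop := fun φ => ∃ f : IBr M p (Cz x), (φ : G → ℂ) = secF x (Cz x) f.1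
  let e : {φ : secSet p M G // P φ} → IBr M p (Cz x) := fun φ => φ.2.choose
  have he : ∀ φ : {φ : secSet p M G // P φ},
      ((φ.1 : secSet p M G) : G → ℂ) = secF x (Cz x) (e φ).1 := fun φ => φ.2.choose_spec
  have hinj : Function.Injective e := fun a b h =>
    Subtype.ext (Subtype.ext ((he a).trans (by rw [h]; exact (he b).symm)))
  have hli := linearIndependent_iff'.mp ((linearIndependent_val hM).comp e hinj)
  have h0 := hli (t.subtype P) (fun φ => c φ.1) (by
    funext s
    simp only [Finset.sum_apply, Pi.smul_apply, Function.comp, smul_eq_mul, Pi.zero_apply]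
    by_cases hs : p ∣ orderOf s
    · exact Finset.sum_eq_zero fun φ _ => by rw [ibr_singular _ hs, mul_zero]
    have h1 := congrFun hc (x * (s : G))
    simp only [Finset.sum_apply, Pi.smul_apply, smul_eq_mul, Pi.zero_apply] at h1
    rw [← h1, ← Finset.sum_filter_of_ne (p := P) fun φ _ hne => ?_]
    · rw [← Finset.sum_subtype_eq_sum_filter]
      refine Finset.sum_congr rfl fun φ _ => ?_
      rw [he φ, secF_apply hx rfl _ hs]
    · exact exists_eq_of_ne_zero φ.2
        (isPPart_mul hx (by rwa [Subgroup.orderOf_coe]) (commute_of_mem rfl s.2))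
        (right_ne_zero_of_mul hne))
    ⟨φ₀, f₀, hf₀⟩ (Finset.mem_subtype.mpr hφ₀)
  exact h0

theorem mem_span_secSet (hM : Cfsg.IsPModular p M) {F : G → ℂ}
    (hF : Cfsg.IsClassFunction G F) : F ∈ Submodule.span ℂ (secSet p M G) := by
  classical
  haveI : ∀ x : G, Fintype (Cz x) := fun x => Fintype.ofFinite _
  rw [classFunction_eq_sum_secF (p := p) hF]
  refine Submodule.sum_mem _ fun x hx => Submodule.smul_mem _ _ ?_
  haveI := Fintype.ofFinite (Cfsg.IrrCharacter (Cz x))
  haveI := finite_ibr (G := Cz x) hM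
  haveI := Fintype.ofFinite (IBr M p (Cz x))
  have h : Cfsg.pRegularPart p (sect x (Cz x) F) ∈
      Submodule.span ℂ (Set.range fun f : IBr M p (Cz x) => f.1) := by
    have e : Cfsg.pRegularPart p (sect x (Cz x) F) = ∑ θ : Cfsg.IrrCharacter (Cz x),
        Cfsg.classInner (sect x (Cz x) F) θ • Cfsg.pRegularPart p (θ : Cz x → ℂ) := by
      funext s
      simp only [Finset.sum_apply, Pi.smul_apply, smul_eq_mul, Contrib.pRegularPart_apply]
      split_ifs
      · simp
      · conv_lhs => rw [classFunction_eq_sum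
          (isClassFunction_sect (fun v hv => commute_of_mem rfl hv) hF)]
        rw [BlockPart.sum_smul_apply]
    rw [e]
    refine Submodule.sum_mem _ fun θ _ => Submodule.smul_mem _ _ ?_
    rw [pRegularPart_eq hM θ]
    exact Submodule.sum_mem _ fun f _ => Submodule.smul_mem _ _ (Submodule.subset_span ⟨f, rfl⟩)
  have h2 := Submodule.mem_map_of_mem (f := secL x (Cz x)) h
  rw [Submodule.map_span] at h2
  refine Submodule.span_mono ?_ h2
  rintro _ ⟨_, ⟨f, rfl⟩, rfl⟩
  exact ⟨x, (Finset.mem_filter.mp hx).2, f, rfl⟩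

/-- The part in a block, linearly. -/
noncomputable def bpL (B : Set (Cfsg.IrrCharacter G)) : (G → ℂ) →ₗ[ℂ] (G → ℂ) where
  toFun := Cfsg.blockPart B
  map_add' f f' := by
    funext g
    simp only [Pi.add_apply, blockPart_apply, Cfsg.classInner, add_mul, Finset.sum_add_distrib,
      mul_add]
  map_smul' c f := by
    funext g
    simp only [RingHom.id_apply, Pi.smul_apply, smul_eq_mul, blockPart_apply, Cfsg.classInner,
      Finset.mul_sum, Finset.sum_mul]
    exact Finset.sum_congr rfl fun _ _ => Finset.sum_congr rfl fun _ _ => by ring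

/-- The regular part, linearly. -/
noncomputable def regL (p : ℕ) : (G → ℂ) →ₗ[ℂ] (G → ℂ) where
  toFun := Cfsg.pRegularPart p
  map_add' f f' := by
    funext g
    simp only [Pi.add_apply, Contrib.pRegularPart_apply]
    split_ifs <;> simp
  map_smul' c f := by
    funext g
    simp only [RingHom.id_apply, Pi.smul_apply, smul_eq_mul, Contrib.pRegularPart_apply]
    split_ifs <;> simp

variable (p M) in
/-- The section functions in a block. -/
def secBlock (B : Set (Cfsg.IrrCharacter G)) : Set (G → ℂ) :=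
  {φ | φ ∈ secSet p M G ∧
    φ ∈ Submodule.span ℂ ((fun χ : Cfsg.IrrCharacter G => (χ : G → ℂ)) '' B)}

theorem span_secBlock (hM : Cfsg.IsPModular p M) {B : Set (Cfsg.IrrCharacter G)}
    (hB : Cfsg.IsPBlock M B) :
    Submodule.span ℂ (secBlock p M B) =
      Submodule.span ℂ ((fun χ : Cfsg.IrrCharacter G => (χ : G → ℂ)) '' B) := by
  classical
  refine le_antisymm (Submodule.span_le.mpr fun φ hφ => hφ.2) (Submodule.span_le.mpr ?_)
  rintro _ ⟨χ, hχ, rfl⟩
  have h := Submodule.mem_map_of_mem (f := bpL B) (mem_span_secSet hM (isClassFunction_irr χ))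
  rw [Submodule.map_span, show bpL B (χ : G → ℂ) = (χ : G → ℂ) from blockPart_irr hχ] at h
  refine (Submodule.span_le.mpr ?_ : _ ≤ Submodule.span ℂ (secBlock p M B)) h
  rintro _ ⟨φ, ⟨x, hx, f, rfl⟩, rfl⟩
  haveI := Fintype.ofFinite (Cz x)
  show Cfsg.blockPart B (secF x (Cz x) f.1) ∈ _
  rcases blockPart_secF hM hx rfl f hB with e | e
  · rw [e]
    refine Submodule.subset_span ⟨secF_mem hx rfl f, ?_⟩
    rw [← e]
    have : Cfsg.blockPart B (secF x (Cz x) f.1) = ∑ ψ ∈ (Set.toFinite B).toFinset,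
        Cfsg.classInner (secF x (Cz x) f.1) ψ • (ψ : G → ℂ) := by
      funext g
      rw [blockPart_apply, Finset.sum_apply]
      rfl
    rw [this]
    exact Submodule.sum_mem _ fun ψ hψ => Submodule.smul_mem _ _
      (Submodule.subset_span ⟨ψ, (Set.toFinite B).mem_toFinset.mp hψ, rfl⟩)
  · rw [e]
    exact zero_mem _

theorem eq_one_of_isPPart {g x : G} (h : Cfsg.IsPPart p g x) (hg : ¬ p ∣ orderOf g) : x = 1 :=
  isPPart_unique Fact.out h
    ⟨g, one_mul g, Commute.one_left g, ⟨0, by rw [orderOf_one, pow_zero]⟩, hg⟩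

/-- A section function is its regular part or has none. -/
theorem regL_of_mem {φ : G → ℂ} (h : φ ∈ secSet p M G) :
    Cfsg.pRegularPart p φ = φ ∨ Cfsg.pRegularPart p φ = 0 := by
  obtain ⟨x, hx, f, rfl⟩ := h
  by_cases hx1 : x = 1
  · left
    funext g
    rw [Contrib.pRegularPart_apply]
    split_ifs with hg
    · by_contra hne
      obtain ⟨w, hw⟩ := exists_conj_of_ne_zero hx rfl f (Ne.symm hne)
      obtain ⟨y, hy, -, -, hy'⟩ := hw
      rw [hx1, mul_one, mul_inv_cancel, one_mul] at hy
      exact hy' (hy ▸ hg)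
    · rfl
  · right
    funext g
    rw [Contrib.pRegularPart_apply]
    split_ifs with hg
    · rfl
    · by_contra hne
      obtain ⟨w, hw⟩ := exists_conj_of_ne_zero hx rfl f hne
      have h1 := eq_one_of_isPPart hw hg
      exact hx1 (by rwa [mul_inv_eq_one, mul_eq_left] at h1)

/-- The regular rank is at most the number of characters of a block fixed by a power map that
fixes the regular elements. -/
theorem blockRank_le_card_fixed (hM : Cfsg.IsPModular p M) {B : Set (Cfsg.IrrCharacter G)}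
    (hB : Cfsg.IsPBlock M B) {k l : ℕ} (hk : k.Coprime (Nat.card G)) (hkl : ∀ g : G, (g ^ k) ^ l = g)
    (hkreg : ∀ g : G, ¬ p ∣ orderOf g → g ^ k = g) (hlreg : ∀ g : G, ¬ p ∣ orderOf g → g ^ l = g) :
    Cfsg.blockRank p B ≤
      Nat.card {χ : Cfsg.IrrCharacter G // χ ∈ B ∧ ∀ g : G, (χ : G → ℂ) (g ^ k) = (χ : G → ℂ) g} := by
  classical
  haveI := Fintype.ofFinite (Cfsg.IrrCharacter G)
  haveI : Finite (secSet p M G) := (finite_secSet hM).to_subtype
  haveI : Finite (secBlock p M B) := ((finite_secSet hM).subset fun φ h => h.1).to_subtype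
  let T : (G → ℂ) →ₗ[ℂ] (G → ℂ) := LinearMap.funLeft ℂ ℂ fun g : G => g ^ k
  have hTχ : ∀ χ : B, SectionMatrix.twistChar hk (χ : Cfsg.IrrCharacter G) ∈ B := fun χ =>
    SectionMatrix.twistChar_mem hM hk hkreg hB χ.2
  have hTV : ∀ φ ∈ Submodule.span ℂ ((fun χ : Cfsg.IrrCharacter G => (χ : G → ℂ)) '' B),
      T φ ∈ Submodule.span ℂ ((fun χ : Cfsg.IrrCharacter G => (χ : G → ℂ)) '' B) := by
    intro φ hφ
    have h := Submodule.mem_map_of_mem (f := T) hφ
    rw [Submodule.map_span] at h
    refine Submodule.span_mono ?_ h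
    rintro _ ⟨_, ⟨χ, hχ, rfl⟩, rfl⟩
    exact ⟨SectionMatrix.twistChar hk χ, hTχ ⟨χ, hχ⟩, rfl⟩
  have hTS : ∀ φ ∈ secSet p M G, T φ ∈ secSet p M G := by
    rintro _ ⟨x, hx, f, rfl⟩
    have hH : Cz x = Cz (x ^ l) := by
      refine congrArg (fun Q : Subgroup G => Subgroup.centralizer (Q : Set G)) (le_antisymm ?_ ?_)
      · rw [Subgroup.zpowers_le (g := x)]
        have e : (x ^ l) ^ k = x := by rw [← pow_mul, mul_comm, pow_mul, hkl]
        have h := Subgroup.pow_mem _ (Subgroup.mem_zpowers (x ^ l)) k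
        rwa [e] at h
      · rw [Subgroup.zpowers_le]
        exact Subgroup.pow_mem _ (Subgroup.mem_zpowers _) l
    obtain ⟨i, hi⟩ := hx
    have hxl : ∃ i : ℕ, orderOf (x ^ l) = p ^ i := by
      obtain ⟨j, -, hj⟩ := (Nat.dvd_prime_pow (Fact.out : p.Prime)).mp (hi ▸ orderOf_pow_dvd l)
      exact ⟨j, hj⟩
    rw [show T (secF x (Cz x) f.1) = secF (x ^ l) (Cz x) f.1 from
      funext fun g => secF_pow hkl hkreg hlreg rfl f g]
    exact secF_mem hxl hH f
  let σ : B → B := fun χ => ⟨SectionMatrix.twistChar hk (χ : Cfsg.IrrCharacter G), hTχ χ⟩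
  let τ : secBlock p M B → secBlock p M B := fun φ =>
    ⟨T φ, hTS _ φ.2.1, hTV _ φ.2.2⟩
  have hindB : LinearIndependent ℂ fun χ : B => ((χ : Cfsg.IrrCharacter G) : G → ℂ) :=
    linearIndependent_irr.comp _ Subtype.val_injective
  have hindS : LinearIndependent ℂ fun φ : secBlock p M B => (φ : G → ℂ) :=
    (linearIndependent_secSet hM).comp (fun φ : secBlock p M B => (⟨φ, φ.2.1⟩ : secSet p M G))
      fun a b h => Subtype.ext (congrArg (fun c : secSet p M G => (c : G → ℂ)) h)
  have hcard := card_fixed_eq T (fun χ : B => ((χ : Cfsg.IrrCharacter G) : G → ℂ))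
    (fun φ : secBlock p M B => (φ : G → ℂ)) hindB hindS
    (by
      rw [Subtype.range_coe_subtype, Set.ofPred_mem_eq, span_secBlock hM hB]
      congr 1
      ext y
      simp)
    σ τ (fun _ => rfl) (fun _ => rfl)
  have hfixB : Nat.card {χ : B // σ χ = χ} = Nat.card {χ : Cfsg.IrrCharacter G //
      χ ∈ B ∧ ∀ g : G, (χ : G → ℂ) (g ^ k) = (χ : G → ℂ) g} :=
    Nat.card_congr
      { toFun := fun χ => ⟨χ.1.1, χ.1.2, fun g => by
          conv_rhs => rw [← χ.2]
          rfl⟩
        invFun := fun χ => ⟨⟨χ.1, χ.2.1⟩, Subtype.ext (Subtype.ext (funext χ.2.2))⟩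
        left_inv := fun _ => rfl
        right_inv := fun _ => rfl }
  rw [← hfixB, hcard]
  let W := {φ : secBlock p M B // Cfsg.pRegularPart p (φ : G → ℂ) = (φ : G → ℂ)}
  haveI := Fintype.ofFinite W
  have hle : Cfsg.blockRank p B ≤ Nat.card W := by
    rw [Cfsg.blockRank, Nat.card_eq_fintype_card]
    refine le_trans (Submodule.finrank_mono ?_)
      (finrank_range_le_card fun φ : W => ((φ.1 : secBlock p M B) : G → ℂ))
    refine Submodule.span_le.mpr ?_
    rintro _ ⟨χ, hχ, rfl⟩
    have h : (χ : G → ℂ) ∈ Submodule.span ℂ (secBlock p M B) := by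
      rw [span_secBlock hM hB]
      exact Submodule.subset_span ⟨χ, hχ, rfl⟩
    have h2 := Submodule.mem_map_of_mem (f := regL p) h
    rw [Submodule.map_span] at h2
    refine (Submodule.span_le.mpr ?_ : _ ≤ Submodule.span ℂ _) h2
    rintro _ ⟨φ, hφ, rfl⟩
    show Cfsg.pRegularPart p φ ∈ _
    rcases regL_of_mem hφ.1 with e | e
    · rw [e]
      exact Submodule.subset_span ⟨⟨⟨φ, hφ⟩, e⟩, rfl⟩
    · rw [e]
      exact zero_mem _
  refine hle.trans (Nat.card_le_card_of_injective
    (fun φ : W => (⟨φ.1, Subtype.ext (funext fun g => ?_)⟩ : {φ : secBlock p M B // τ φ = φ}))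
    fun a b h => Subtype.ext (congrArg (fun c : {φ : secBlock p M B // τ φ = φ} => c.1) h))
  show (φ.1 : G → ℂ) (g ^ k) = (φ.1 : G → ℂ) g
  by_cases hg : p ∣ orderOf g
  · rw [← φ.2, Contrib.pRegularPart_apply, Contrib.pRegularPart_apply,
      if_pos (show p ∣ orderOf (g ^ k) by
        rwa [(hk.coprime_dvd_right (orderOf_dvd_natCard g)).symm.orderOf_pow]), if_pos hg]
  · rw [hkreg g hg]

end Cfsg.Agent.Lib.PRational.Count
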