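import Cfsg.Agent.Lib.BrauerChar.Main
import Cfsg.Agent.Lib.Blocks.SectionPart
import Cfsg.Agent.Lib.Blocks.Induced

/-!
# The class functions of the irreducible Brauer characters of the centralizers

`secF x H f` is the class function carried by the section of the `p`-element `x` with the values of
`f` on `H`, the centralizer of `x`.  For an irreducible Brauer character `f` of `H` it lies in one
block of `G`.
-/

set_option autoImplicit false
set_option linter.style.haveILetI false
set_option linter.unusedSectionVars false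

namespace Cfsg.Agent.Lib.PRational.Section

open scoped ComplexConjugate
open Cfsg.Agent.Lib.Characters.Basic Cfsg.Agent.Lib.Characters.Complete
open Cfsg.Agent.Lib.Blocks Cfsg.Agent.Lib.Blocks.Contrib Cfsg.Agent.Lib.Blocks.BlockPart
open Cfsg.Agent.Lib.Blocks.SectionPart Cfsg.Agent.Lib.Induced.Basic
open Cfsg.Agent.Lib.BrauerMap.PrincipalSection (isPPart_unique)
open Cfsg.Agent.Lib.BrauerChar

universe u

variable {G : Type u} [Group G]

/-- The centralizer of the group generated by `x`. -/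
abbrev Cz (x : G) : Subgroup G := Subgroup.centralizer (Subgroup.zpowers x : Set G)

open scoped Classical in
/-- Extension by zero. -/
noncomputable def extF (H : Subgroup G) (f : H → ℂ) (g : G) : ℂ :=
  if h : g ∈ H then f ⟨g, h⟩ else 0

theorem extF_mem {H : Subgroup G} (f : H → ℂ) (s : H) : extF H f (s : G) = f s := by
  simp [extF]

theorem extF_of_notMem {H : Subgroup G} (f : H → ℂ) {g : G} (h : g ∉ H) : extF H f g = 0 := by
  simp [extF, h]

/-- The class function on the section of `x`. -/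
noncomputable def secF [Fintype G] (x : G) (H : Subgroup G) (f : H → ℂ) (g : G) : ℂ :=
  (Nat.card H : ℂ)⁻¹ * ∑ w : G, extF H f (x⁻¹ * (w⁻¹ * g * w))

variable [Fintype G]

theorem isClassFunction_secF (x : G) (H : Subgroup G) (f : H → ℂ) :
    Cfsg.IsClassFunction G (secF x H f) := by
  intro g w
  unfold secF
  congr 1
  refine (Fintype.sum_equiv (Equiv.mulLeft w) _ _ fun v => ?_).symm
  rw [Equiv.coe_mulLeft]
  congr 1
  group

variable {p : ℕ} [Fact p.Prime] {M : Ideal Cfsg.AlgInt} [M.IsMaximal]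

theorem mem_cz {x v : G} : v ∈ (Cz x) ↔ v * x = x * v :=
  Cfsg.Agent.Lib.BrauerMap.SecondMain.mem_centralizer_zpowers_iff

theorem ibr_singular {H : Subgroup G} (f : IBr M p H) {s : H} (hs : p ∣ orderOf s) : f.1 s = 0 := by
  rw [← f.bchar_rep, bchar_singular _ hs]

theorem ibr_classFunction {H : Subgroup G} (f : IBr M p H) : Cfsg.IsClassFunction H f.1 :=
  f.bchar_rep ▸ bchar_isClassFunction f.rep

/-- The value on the section. -/
theorem secF_apply {x : G} (hx : ∃ k : ℕ, orderOf x = p ^ k) {H : Subgroup G} (hH : H = (Cz x))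
    (f : IBr M p H) {s : H} (hs : ¬ p ∣ orderOf s) : secF x H f.1 (x * (s : G)) = f.1 s := by
  classical
  have hxs : Commute x (s : G) := commute_of_mem hH s.2
  have hsG : ¬ p ∣ orderOf (s : G) := by rwa [Subgroup.orderOf_coe]
  have hterm : ∀ w : G, extF H f.1 (x⁻¹ * (w⁻¹ * (x * (s : G)) * w)) =
      if w ∈ H then f.1 s else 0 := by
    intro w
    by_cases hw : w ∈ H
    · have e : x⁻¹ * (w⁻¹ * (x * (s : G)) * w) = ((⟨w, hw⟩⁻¹ * s * ⟨w, hw⟩ : H) : G) := by
        show _ = w⁻¹ * (s : G) * w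
        rw [← mul_assoc w⁻¹, ← (commute_of_mem hH (H.inv_mem hw)).eq]
        group
      rw [if_pos hw, e, extF_mem]
      have h2 := ibr_classFunction f s ⟨w, hw⟩⁻¹
      rwa [inv_inv] at h2
    · rw [if_neg hw]
      by_cases ht : x⁻¹ * (w⁻¹ * (x * (s : G)) * w) ∈ H
      · rw [← Subgroup.coe_mk H _ ht, extF_mem]
        refine ibr_singular f ?_
        by_contra hreg
        rw [← Subgroup.orderOf_coe] at hreg
        have h1 : Cfsg.IsPPart p (w⁻¹ * (x * (s : G)) * w) x :=
          ⟨_, mul_inv_cancel_left x _, commute_of_mem hH ht, hx, hreg⟩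
        have h2 := isPPart_conj (isPPart_mul hx hsG hxs) w⁻¹
        rw [inv_inv] at h2
        have h3 := isPPart_unique Fact.out h1 h2
        refine hw (hH ▸ mem_cz.mpr ?_)
        conv_lhs => rw [h3]
        group
      · exact extF_of_notMem _ ht
  rw [secF, Finset.sum_congr rfl fun w _ => hterm w, ← Finset.sum_filter, Finset.sum_const,
    nsmul_eq_mul, ← mul_assoc, show (Finset.univ.filter fun w : G => w ∈ H).card = Nat.card H by
      rw [Nat.card_eq_fintype_card, Fintype.card_subtype],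
    inv_mul_cancel₀ (Nat.cast_ne_zero.mpr Nat.card_pos.ne'), one_mul]

/-- The function vanishes outside the section. -/
theorem exists_conj_of_ne_zero {x : G} (hx : ∃ k : ℕ, orderOf x = p ^ k) {H : Subgroup G}
    (hH : H = (Cz x)) (f : IBr M p H) {g : G} (hg : secF x H f.1 g ≠ 0) :
    ∃ w : G, Cfsg.IsPPart p g (w * x * w⁻¹) := by
  obtain ⟨w, -, hw⟩ := Finset.exists_ne_zero_of_sum_ne_zero (right_ne_zero_of_mul hg)
  have ht : x⁻¹ * (w⁻¹ * g * w) ∈ H := by
    by_contra h
    exact hw (extF_of_notMem _ h)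
  rw [← Subgroup.coe_mk H _ ht, extF_mem] at hw
  have hreg : ¬ p ∣ orderOf (x⁻¹ * (w⁻¹ * g * w)) := fun h => hw (ibr_singular f (by
    rwa [← Subgroup.orderOf_coe]))
  refine ⟨w, ?_⟩
  have h0 : Cfsg.IsPPart p (w⁻¹ * g * w) x :=
    ⟨_, mul_inv_cancel_left x _, commute_of_mem hH ht, hx, hreg⟩
  have h := isPPart_conj h0 w
  rwa [show w * (w⁻¹ * g * w) * w⁻¹ = g by group] at h

/-- The inner product with a class function. -/
theorem classInner_secF (x : G) {H : Subgroup G} [Fintype H] (f : H → ℂ) {F : G → ℂ}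
    (hF : Cfsg.IsClassFunction G F) :
    Cfsg.classInner (secF x H f) F =
      (Nat.card H : ℂ)⁻¹ * ∑ s : H, f s * conj (F (x * (s : G))) := by
  classical
  have hsum : ∑ g : G, (∑ v : G, extF H f (x⁻¹ * (v⁻¹ * g * v))) * conj (F g) =
      (Nat.card G : ℂ) * ∑ s : H, f s * conj (F (x * (s : G))) := by
    simp only [Finset.sum_mul]
    rw [Finset.sum_comm, Nat.card_eq_fintype_card, ← nsmul_eq_mul, ← Finset.card_univ,
      ← Finset.sum_const]
    refine Finset.sum_congr rfl fun v _ => ?_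
    refine (Finset.sum_of_injOn (fun s : H => v * (x * (s : G)) * v⁻¹)
      (fun s _ s' _ h => Subtype.ext (mul_left_cancel (mul_left_cancel (mul_right_cancel h))))
      (fun _ _ => Finset.mem_univ _) (fun g _ hg => ?_) (fun s _ => ?_)).symm
    · rw [extF_of_notMem, zero_mul]
      intro h
      refine hg ⟨⟨_, h⟩, Finset.mem_univ _, ?_⟩
      show v * (x * (x⁻¹ * (v⁻¹ * g * v))) * v⁻¹ = g
      group
    · have e : x⁻¹ * (v⁻¹ * (v * (x * (s : G)) * v⁻¹) * v) = (s : G) := by group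
      rw [e, extF_mem, hF (x * (s : G)) v]
  have e : ∀ g : G, secF x H f g * conj (F g) = (Nat.card H : ℂ)⁻¹ *
      ((∑ v : G, extF H f (x⁻¹ * (v⁻¹ * g * v))) * conj (F g)) := fun g => mul_assoc _ _ _
  have hG : (Nat.card G : ℂ) ≠ 0 := Nat.cast_ne_zero.mpr Nat.card_pos.ne'
  rw [Cfsg.classInner, Finset.sum_congr rfl fun g _ => e g, ← Finset.mul_sum, hsum]
  field_simp

/-- A member of a block is its own part. -/
theorem blockPart_irr {B : Set (Cfsg.IrrCharacter G)} {θ : Cfsg.IrrCharacter G} (hθ : θ ∈ B) :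
    Cfsg.blockPart B (θ : G → ℂ) = θ := by
  classical
  funext g
  rw [blockPart_apply, Finset.sum_eq_single θ]
  · rw [classInner_irr, if_pos rfl, one_mul]
  · intro φ _ hne
    rw [classInner_irr, if_neg hne.symm, zero_mul]
  · intro h
    exact absurd ((Set.toFinite B).mem_toFinset.mpr hθ) h

/-- The function lies in a block of `G`. -/
theorem exists_block_secF (hM : Cfsg.IsPModular p M) {x : G} (hx : ∃ k : ℕ, orderOf x = p ^ k)
    {H : Subgroup G} [Fintype H] (hH : H = (Cz x)) (f : IBr M p H) :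
    ∃ B : Set (Cfsg.IrrCharacter G), Cfsg.IsPBlock M B ∧
      ∀ χ : Cfsg.IrrCharacter G, χ ∉ B → Cfsg.classInner (secF x H f.1) (χ : G → ℂ) = 0 := by
  classical
  obtain ⟨e, he, hfe⟩ := exists_inBlock f
  obtain ⟨k, hk⟩ := hx
  have hP : IsPGroup p (Subgroup.zpowers x) :=
    IsPGroup.of_card (n := k) (by rw [Nat.card_zpowers, hk])
  have hPH : Subgroup.zpowers x ≤ H := by
    rw [hH]
    exact Subgroup.le_centralizer _
  obtain ⟨B, hind⟩ := inducedBlockDefined_of_le_normalizer hM hP hPH hH.ge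
    (hH ▸ Subgroup.centralizer_le_normalizer _) he
  refine ⟨B, hind.2.1, fun χ hχ => ?_⟩
  rw [classInner_secF x _ (isClassFunction_irr χ)]
  have hx' : ∃ k : ℕ, orderOf x⁻¹ = p ^ k := ⟨k, by rw [orderOf_inv, hk]⟩
  have hH' : H = Subgroup.centralizer (Subgroup.zpowers x⁻¹ : Set G) := by
    rw [Subgroup.zpowers_inv]; exact hH
  have hh : Cfsg.IsClassFunction H (sect x⁻¹ H (χ : G → ℂ)) :=
    isClassFunction_sect (fun v hv => commute_of_mem hH' hv) (isClassFunction_irr χ)
  have hconj : ∀ s : H, conj ((χ : G → ℂ) (x * (s : G))) = sect x⁻¹ H (χ : G → ℂ) s⁻¹ := by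
    intro s
    rw [← apply_inv (isCharacter_irr χ), sect_apply, Subgroup.coe_inv, mul_inv_rev,
      ((commute_of_mem hH s.2).inv_inv).eq]
  simp only [hconj]
  suffices h : ∀ F ∈ Submodule.span ℤ
      ((fun θ : Cfsg.IrrCharacter H => Cfsg.pRegularPart p (θ : H → ℂ)) '' e),
      ∑ s : H, F s * sect x⁻¹ H (χ : G → ℂ) s⁻¹ = 0 by
    rw [h _ (mem_span_int hM he hfe), mul_zero]
  intro F hF
  induction hF using Submodule.span_induction with
  | mem F hF =>
    obtain ⟨θ, hθ, rfl⟩ := hF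
    have h1 : Cfsg.pRegularPart p (θ : H → ℂ) =
        Cfsg.blockPart e (Cfsg.pRegularPart p (θ : H → ℂ)) := by
      rw [← regular_blockPart hM he (isClassFunction_irr θ), blockPart_irr hθ]
    show ∑ s : H, Cfsg.pRegularPart p (θ : H → ℂ) s * sect x⁻¹ H (χ : G → ℂ) s⁻¹ = 0
    rw [h1, ← sum_blockPart_mul_inv e (isClassFunction_regular (isClassFunction_irr θ)) hh, ← h1]
    refine Finset.sum_eq_zero fun s _ => ?_
    by_cases hs : p ∣ orderOf s
    · rw [Contrib.pRegularPart_apply, if_pos hs, zero_mul]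
    · rw [blockPart_sect_eq_zero hM hx' hH' hind hχ (by rwa [orderOf_inv]), mul_zero]
  | zero => simp
  | add F F' _ _ h h' => simp only [Pi.add_apply, add_mul, Finset.sum_add_distrib, h, h', add_zero]
  | smul a F _ h => simp only [Pi.smul_apply, zsmul_eq_mul, mul_assoc, ← Finset.mul_sum, h, mul_zero]

/-- The part in a block is the function or zero. -/
theorem blockPart_secF (hM : Cfsg.IsPModular p M) {x : G} (hx : ∃ k : ℕ, orderOf x = p ^ k)
    {H : Subgroup G} [Fintype H] (hH : H = (Cz x)) (f : IBr M p H)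
    {B : Set (Cfsg.IrrCharacter G)} (hB : Cfsg.IsPBlock M B) :
    Cfsg.blockPart B (secF x H f.1) = secF x H f.1 ∨ Cfsg.blockPart B (secF x H f.1) = 0 := by
  classical
  haveI := Fintype.ofFinite (Cfsg.IrrCharacter G)
  obtain ⟨B', hB', hz⟩ := exists_block_secF hM hx hH f
  by_cases h : B = B'
  · left
    subst h
    funext g
    rw [blockPart_apply]
    conv_rhs => rw [classFunction_eq_sum (isClassFunction_secF x H f.1), sum_smul_apply]
    refine Finset.sum_subset (Finset.subset_univ _) fun φ _ hφ => ?_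
    rw [hz φ (fun h => hφ ((Set.toFinite B).mem_toFinset.mpr h)), zero_mul]
  · right
    funext g
    rw [blockPart_apply]
    refine Finset.sum_eq_zero fun φ hφ => ?_
    rw [hz φ (fun h' => h ((isPBlock_eq_blockOf hB ((Set.toFinite B).mem_toFinset.mp hφ)).trans
      (isPBlock_eq_blockOf hB' h').symm)), zero_mul]

/-- Irreducible Brauer characters along a surjective homomorphism of the same kind. -/
theorem exists_ibr_comp {H H' : Type u} [Group H] [Group H'] [Finite H] [Finite H']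
    (e : H ≃* H') (f : IBr M p H') : ∃ f₀ : IBr M p H, ∀ s : H, f₀.1 s = f.1 (e s) := by
  have hcomp : ∀ s : H, bchar p (f.rep.comp e.toMonoidHom) s = f.1 (e s) := fun s => by
    rw [bchar_comp f.rep e.toMonoidHom e.injective s, f.bchar_rep]
    rfl
  refine ⟨⟨fun s => f.1 (e s), f.deg, f.deg_pos, f.rep.comp e.toMonoidHom, ?_, funext hcomp⟩,
    fun _ => rfl⟩
  intro m
  obtain ⟨z, rfl⟩ := f.full m
  induction z using MonoidAlgebra.induction_on with
  | of g =>
    refine ⟨MonoidAlgebra.single (e.symm g) 1, ?_⟩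
    simp [alg_single]
  | add a b ha hb =>
    obtain ⟨a', ha'⟩ := ha
    obtain ⟨b', hb'⟩ := hb
    exact ⟨a' + b', by rw [map_add, map_add, ha', hb']⟩
  | smul r a ha =>
    obtain ⟨a', ha'⟩ := ha
    exact ⟨r • a', by rw [map_smul, map_smul, ha']⟩

/-- The function only depends on the class of the element. -/
theorem exists_secF_conj {x v : G} (f : IBr M p (Cz (v * x * v⁻¹))) :
    ∃ f₀ : IBr M p (Cz x), secF (v * x * v⁻¹) (Cz (v * x * v⁻¹)) f.1 = secF x (Cz x) f₀.1 := by
  classical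
  have hmem : ∀ y : G, y ∈ (Cz x) ↔ v * y * v⁻¹ ∈ (Cz (v * x * v⁻¹)) := fun y => by
    rw [mem_cz, mem_cz,
      show v * y * v⁻¹ * (v * x * v⁻¹) = v * (y * x) * v⁻¹ by group,
      show v * x * v⁻¹ * (v * y * v⁻¹) = v * (x * y) * v⁻¹ by group,
      mul_left_inj, mul_right_inj]
  have hmem' : ∀ y : G, y ∈ (Cz (v * x * v⁻¹)) → v⁻¹ * y * v ∈ (Cz x) := fun y hy => by
    rw [hmem, show v * (v⁻¹ * y * v) * v⁻¹ = y by group]; exact hy
  let e : (Cz x) ≃* (Cz (v * x * v⁻¹)) :=
    { toFun := fun y => ⟨v * (y : G) * v⁻¹, (hmem y).mp y.2⟩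
      invFun := fun y => ⟨v⁻¹ * (y : G) * v, hmem' y y.2⟩
      left_inv := fun y => Subtype.ext (by group)
      right_inv := fun y => Subtype.ext (by group)
      map_mul' := fun a b => Subtype.ext (by
        show v * ((a : G) * (b : G)) * v⁻¹ = v * (a : G) * v⁻¹ * (v * (b : G) * v⁻¹)
        group) }
  obtain ⟨f₀, hf₀⟩ := exists_ibr_comp e f
  refine ⟨f₀, funext fun g => ?_⟩
  unfold secF
  rw [← Nat.card_congr e.toEquiv]
  congr 1
  refine Fintype.sum_equiv (Equiv.mulRight v) _ _ fun w => ?_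
  rw [Equiv.coe_mulRight,
    show (v * x * v⁻¹)⁻¹ * (w⁻¹ * g * w) = v * (x⁻¹ * ((w * v)⁻¹ * g * (w * v))) * v⁻¹ by group]
  by_cases h : x⁻¹ * ((w * v)⁻¹ * g * (w * v)) ∈ (Cz x)
  · rw [← Subgroup.coe_mk (Cz x) _ h, extF_mem, hf₀]
    exact extF_mem f.1 (e ⟨_, h⟩)
  · rw [extF_of_notMem _ h, extF_of_notMem _ (fun h' => h ((hmem _).mpr h'))]

/-- A power map permutes the functions. -/
theorem secF_pow {k l : ℕ} (hkl : ∀ g : G, (g ^ k) ^ l = g)
    (hk : ∀ g : G, ¬ p ∣ orderOf g → g ^ k = g) (hl : ∀ g : G, ¬ p ∣ orderOf g → g ^ l = g)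
    {x : G} {H : Subgroup G} (hH : H = (Cz x)) (f : IBr M p H) (g : G) :
    secF x H f.1 (g ^ k) = secF (x ^ l) H f.1 g := by
  classical
  unfold secF
  congr 1
  refine Finset.sum_congr rfl fun w _ => ?_
  rw [show w⁻¹ * g ^ k * w = (w⁻¹ * g * w) ^ k by
    rw [show w⁻¹ * g * w = w⁻¹ * g * w⁻¹⁻¹ by rw [inv_inv], conj_pow, inv_inv]]
  generalize w⁻¹ * g * w = h
  have hkl' : ∀ g : G, (g ^ l) ^ k = g := fun g => by rw [← pow_mul, mul_comm, pow_mul, hkl]
  have hiff : ∀ s : H, ¬ p ∣ orderOf s → (x⁻¹ * h ^ k = s ↔ (x ^ l)⁻¹ * h = s) := by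
    intro s hs
    rw [← Subgroup.orderOf_coe] at hs
    have hc : Commute x (s : G) := commute_of_mem hH s.2
    rw [inv_mul_eq_iff_eq_mul, inv_mul_eq_iff_eq_mul]
    constructor
    · intro e
      conv_lhs => rw [← hkl h, e, hc.mul_pow, hl _ hs]
    · intro e
      rw [e, (hc.pow_left l).mul_pow, hkl', hk _ hs]
  by_cases ha : ∃ s : H, ¬ p ∣ orderOf s ∧ x⁻¹ * h ^ k = s
  · obtain ⟨s, hs, e⟩ := ha
    rw [e, (hiff s hs).mp e]
  · have z : ∀ t : G, (∀ s : H, ¬ p ∣ orderOf s → t ≠ (s : G)) → extF H f.1 t = 0 := by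
      intro t ht
      by_cases htH : t ∈ H
      · rw [← Subgroup.coe_mk H _ htH, extF_mem]
        exact ibr_singular f (by_contra fun hs => ht ⟨t, htH⟩ hs rfl)
      · exact extF_of_notMem _ htH
    rw [z _ fun s hs e => ha ⟨s, hs, e⟩, z _ fun s hs e => ha ⟨s, hs, (hiff s hs).mpr e⟩]

theorem secF_add (x : G) {H : Subgroup G} (f f' : H → ℂ) :
    secF x H (f + f') = secF x H f + secF x H f' := by
  funext g
  show secF x H (f + f') g = secF x H f g + secF x H f' g
  unfold secF
  rw [← mul_add, ← Finset.sum_add_distrib]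
  refine congrArg _ (Finset.sum_congr rfl fun w _ => ?_)
  unfold extF
  split_ifs <;> simp

theorem secF_smul (x : G) {H : Subgroup G} (c : ℂ) (f : H → ℂ) :
    secF x H (c • f) = c • secF x H f := by
  funext g
  show secF x H (c • f) g = c * secF x H f g
  unfold secF
  rw [mul_left_comm c, Finset.mul_sum (a := c)]
  refine congrArg _ (Finset.sum_congr rfl fun w _ => ?_)
  unfold extF
  split_ifs <;> simp

/-- The section functions as a linear map. -/
noncomputable def secL (x : G) (H : Subgroup G) : (H → ℂ) →ₗ[ℂ] (G → ℂ) where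
  toFun := secF x H
  map_add' := secF_add x
  map_smul' := secF_smul x

open scoped Classical in
/-- A class function is the sum of its sections. -/
theorem classFunction_eq_sum_secF {F : G → ℂ} (hF : Cfsg.IsClassFunction G F)
    [∀ x : G, Fintype ((Cz x) : Subgroup G)] :
    F = ∑ x ∈ Finset.univ.filter (fun x : G => ∃ k : ℕ, orderOf x = p ^ k),
      ((Nat.card ((Cz x) : Subgroup G) : ℂ) / (Nat.card G : ℂ)) •
        secL x (Cz x) (Cfsg.pRegularPart p (sect x (Cz x) F)) := by
  funext g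
  rw [Finset.sum_apply]
  have e : ∀ x : G, (((Nat.card ((Cz x) : Subgroup G) : ℂ) / (Nat.card G : ℂ)) •
      secL x (Cz x) (Cfsg.pRegularPart p (sect x (Cz x) F))) g =
      (Nat.card G : ℂ)⁻¹ *
        ∑ w : G, extF (Cz x) (Cfsg.pRegularPart p (sect x (Cz x) F)) (x⁻¹ * (w⁻¹ * g * w)) := by
    intro x
    show _ * secF _ _ _ g = _
    unfold secF
    have : (Nat.card ((Cz x) : Subgroup G) : ℂ) ≠ 0 := Nat.cast_ne_zero.mpr Nat.card_pos.ne'
    field_simp
  simp only [e]
  rw [← Finset.mul_sum, Finset.sum_comm]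
  have hw : ∀ w : G, ∑ x ∈ Finset.univ.filter (fun x : G => ∃ k : ℕ, orderOf x = p ^ k),
      extF (Cz x) (Cfsg.pRegularPart p (sect x (Cz x) F)) (x⁻¹ * (w⁻¹ * g * w)) = F g := by
    intro w
    obtain ⟨q, hq⟩ := Blocks.exists_isPPart (Fact.out : p.Prime) (w⁻¹ * g * w)
    obtain ⟨y, hy, hc, hqo, hy'⟩ := hq
    have hyC : y ∈ (Cz q) := mem_cz.mpr hc.symm.eq
    rw [Finset.sum_eq_single q]
    · rw [← hy, inv_mul_cancel_left, ← Subgroup.coe_mk (Cz q) y hyC, extF_mem,
        Contrib.pRegularPart_apply, if_neg (by rwa [← Subgroup.orderOf_coe]), sect_apply,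
        Subgroup.coe_mk, hy]
      have h2 := hF g w⁻¹
      rwa [inv_inv] at h2
    · intro x hx hne
      by_cases ht : x⁻¹ * (w⁻¹ * g * w) ∈ (Cz x)
      · rw [← Subgroup.coe_mk (Cz x) _ ht, extF_mem, Contrib.pRegularPart_apply, if_pos]
        by_contra hreg
        rw [← Subgroup.orderOf_coe] at hreg
        exact hne (isPPart_unique Fact.out
          ⟨_, mul_inv_cancel_left x _, commute_of_mem rfl ht, (Finset.mem_filter.mp hx).2, hreg⟩
          ⟨y, hy, hc, hqo, hy'⟩)
      · exact extF_of_notMem _ ht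
    · intro h
      exact absurd (Finset.mem_filter.mpr ⟨Finset.mem_univ q, hqo⟩) h
  rw [Finset.sum_congr rfl fun w _ => hw w, Finset.sum_const, nsmul_eq_mul, Finset.card_univ,
    ← Nat.card_eq_fintype_card, ← mul_assoc,
    inv_mul_cancel₀ (Nat.cast_ne_zero.mpr Nat.card_pos.ne'), one_mul]

end Cfsg.Agent.Lib.PRational.Section
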